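import Groth.Agent.RpushLib.AffBaseBC
import Groth.Agent.KFlatLib.PerfectPull
import Groth.Agent.DegPullLib.H0
import Groth.Agent.AmpleDevLib.Pull
import Groth.Agent.AmpleThLib.Pow
import Groth.Agent.AmpleThLib.Locus
import Groth.Agent.FinPicLib.Main
import Groth.Agent.CurvLib.Euler

/-!
# Descending triviality of invertible modules along field extensions
-/

set_option autoImplicit false
universe u

open CategoryTheory CategoryTheory.Limits AlgebraicGeometry TopologicalSpace Opposite TensorProduct
open AmpleLib (res GenAt GenOn)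
open KFlatLib (puSec pb)

noncomputable section

namespace PicFieldLib

variable {k k' : Type u} [Field k] [Field k'] [Algebra k k'] {X X' : Scheme.{u}}
  [X.Over (Spec (CommRingCat.of k))] [X'.Over (Spec (CommRingCat.of k'))] {g : X' ⟶ X}
  (H : IsPullback g (X' ↘ Spec (CommRingCat.of k')) (X ↘ Spec (CommRingCat.of k))
    (Spec.map (CommRingCat.ofHom (algebraMap k k'))))

/-- Pulling back global sections, as a semilinear map on cohomology. -/
def pullH0 (M : X.Modules) :
    Coh.HH X M 0 →ₛₗ[algebraMap k k'] Coh.HH X' (pb g M) 0 where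
  toFun x := (DegPullLib.e0 (pb g M)).symm (show Γ(pb g M, ⊤) from puSec g (DegPullLib.e0 M x))
  map_add' x y := by
    rw [← map_add]
    refine congrArg _ ?_
    rw [map_add]
    exact map_add (((Scheme.Modules.pullbackPushforwardAdjunction g).unit.app M).app ⊤).hom _ _
  map_smul' c x := by
    apply (DegPullLib.e0 (pb g M)).injective
    change DegPullLib.e0 (pb g M) ((DegPullLib.e0 (pb g M)).symm (show Γ(pb g M, ⊤) from puSec g
        (DegPullLib.e0 M (HSMul.hSMul (α := Coh.Γtop X) (Coh.toGlobal (X ↘ Spec (CommRingCat.of k)) c) x)))) =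
      DegPullLib.e0 (pb g M) (HSMul.hSMul (α := Coh.Γtop X')
        (Coh.toGlobal (X' ↘ Spec (CommRingCat.of k')) (algebraMap k k' c))
        ((DegPullLib.e0 (pb g M)).symm (show Γ(pb g M, ⊤) from puSec g (DegPullLib.e0 M x))))
    rw [AddEquiv.apply_symm_apply, DegPullLib.e0_smul, DegPullLib.e0_smul, AddEquiv.apply_symm_apply,
      KFlatLib.puSec_smul]
    exact congrArg (fun t : Γ(X', ⊤) => t • (show Γ(pb g M, ⊤) from puSec g (DegPullLib.e0 M x)))
      (RpushLib.toGlobal_comm H c)

theorem e0_pullH0 (M : X.Modules) (x : Coh.HH X M 0) :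
    DegPullLib.e0 (pb g M) (pullH0 H M x) = (show Γ(pb g M, ⊤) from puSec g (DegPullLib.e0 M x)) :=
  AddEquiv.apply_symm_apply _ _

/-- The base change map on global sections is injective. -/
theorem injective_ext (M : X.Modules) [Coh.IsQCoh M] :
    Function.Injective (RpushLib.extSL (pullH0 H M)) := by
  rw [injective_iff_map_eq_zero]
  intro z hz
  let b := Module.Free.chooseBasis k k'
  apply (TensorProduct.equivFinsuppOfBasisLeft b).injective
  rw [map_zero]
  ext i
  rw [Finsupp.zero_apply]
  apply (DegPullLib.e0 M).injective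
  rw [map_zero]
  refine TwistLib.mod_ext M fun x _ => ?_
  obtain ⟨_, ⟨V, hV, rfl⟩, hxV, -⟩ :=
    X.isBasis_affineOpens.exists_subset_of_mem_open (Set.mem_univ x) isOpen_univ
  let φ : k →+* Γ(X, V) := (X.presheaf.map (homOfLE (le_top : V ≤ ⊤)).op).hom.comp
    (Coh.toGlobal (X ↘ Spec (CommRingCat.of k)))
  let ψ : k' →+* Γ(X', g ⁻¹ᵁ V) := (X'.presheaf.map (homOfLE (le_top : g ⁻¹ᵁ V ≤ ⊤)).op).hom.comp
    (Coh.toGlobal (X' ↘ Spec (CommRingCat.of k')))
  have hpo := RpushLib.isPushout_affBase H hV (U := g ⁻¹ᵁ V) rfl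
  have hU : IsAffineOpen (g ⁻¹ᵁ V) := by
    haveI : IsAffineHom g := MorphismProperty.of_isPullback (P := @IsAffineHom) H.flip inferInstance
    exact hV.preimage g
  have hc : ∀ a, g.appLE V (g ⁻¹ᵁ V) le_rfl (φ a) = ψ (algebraMap k k' a) := fun a =>
    congr($(hpo.w) a)
  have hb := RpushLib.bijective_secMap₀_of_isPushout g hV φ hU ψ le_rfl hc hpo M
  let r : Coh.HH X M 0 →ₗ[k] (RpushLib.secFun V φ).obj M :=
    { toFun := fun y => res M le_top (DegPullLib.e0 M y)
      map_add' := fun y y' => by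
        change M.presheaf.map _ (DegPullLib.e0 M (y + y')) = _
        rw [map_add, map_add]
        rfl
      map_smul' := fun c y => by
        change M.presheaf.map _ (DegPullLib.e0 M
          (HSMul.hSMul (α := Coh.Γtop X) (Coh.toGlobal (X ↘ Spec (CommRingCat.of k)) c) y)) = _
        rw [DegPullLib.e0_smul]
        exact AmpleLib.res_smul M _ _ _ }
  have key : ∀ w, RpushLib.extSL (RpushLib.secMap₀ (σ := algebraMap k k') g φ ψ le_rfl hc
      ((Scheme.Modules.pullbackPushforwardAdjunction g).unit.app M)) (r.lTensor k' w) =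
      (show (RpushLib.secFun (g ⁻¹ᵁ V) ψ).obj (pb g M) from
        res (pb g M) le_top (DegPullLib.e0 (pb g M) (RpushLib.extSL (pullH0 H M) w))) := by
    intro w
    induction w using TensorProduct.induction_on with
    | zero =>
      simp only [map_zero]
      rfl
    | tmul c y =>
      rw [LinearMap.lTensor_tmul, RpushLib.extSL_tmul, RpushLib.extSL_tmul]
      refine Eq.trans ?_ (congrArg (fun t => res (pb g M) (le_top : g ⁻¹ᵁ V ≤ ⊤) t)
        (DegPullLib.e0_smul (pb g M) (Coh.toGlobal (X' ↘ Spec (CommRingCat.of k')) c) (pullH0 H M y))).symm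
      rw [e0_pullH0, AmpleLib.res_smul]
      refine congrArg (fun t : Γ(pb g M, g ⁻¹ᵁ V) => ψ c • t) ?_
      change (pb g M).presheaf.map (homOfLE (le_refl (g ⁻¹ᵁ V))).op (puSec g (res M le_top (DegPullLib.e0 M y))) = _
      refine (AmpleLib.res_refl (pb g M) _).trans ?_
      exact TwistLib.puSec_res g (le_top : V ≤ ⊤) (DegPullLib.e0 M y)
    | add w w' hw hw' =>
      simp only [map_add, hw, hw']
      rfl
  have h0 : r.lTensor k' z = 0 := hb.1 (by
    rw [key, hz, map_zero, map_zero]
    exact map_zero ((pb g M).presheaf.map (homOfLE (le_top : g ⁻¹ᵁ V ≤ ⊤)).op).hom)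
  have hcoord : ∀ w : k' ⊗[k] Coh.HH X M 0, TensorProduct.equivFinsuppOfBasisLeft b (r.lTensor k' w) i =
      r (TensorProduct.equivFinsuppOfBasisLeft b w i) := fun w => by
    induction w using TensorProduct.induction_on with
    | zero => simp
    | tmul c y =>
      rw [LinearMap.lTensor_tmul, TensorProduct.equivFinsuppOfBasisLeft_apply_tmul_apply,
        TensorProduct.equivFinsuppOfBasisLeft_apply_tmul_apply, map_smul]
    | add w w' hw hw' => simp only [map_add, Finsupp.add_apply, hw, hw']
  have h1 := hcoord z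
  rw [h0, map_zero, Finsupp.zero_apply] at h1
  have h2 := congrArg (fun t : Γ(M, V) => M.presheaf.germ V x hxV t)
    (show (0 : Γ(M, V)) = res M le_top (DegPullLib.e0 M (TensorProduct.equivFinsuppOfBasisLeft b z i)) from h1)
  simp only [AmpleLib.germ_res, map_zero] at h2
  rw [map_zero]
  exact h2.symm

include H in
/-- Base change of global sections. -/
theorem span_pullH0 [CompactSpace X] [QuasiSeparatedSpace X] (M : X.Modules) [Coh.IsQCoh M]
    [Module.Finite k (Coh.HH X M 0)] (y : Coh.HH X' (pb g M) 0) :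
    ∃ z, RpushLib.extSL (pullH0 H M) z = y := by
  obtain ⟨e⟩ := RpushLib.nonempty_affBase_bc H M 0
  haveI : Module.Finite k' (Coh.HH X' (pb g M) 0) := Module.Finite.equiv e
  exact (LinearMap.injective_iff_surjective_of_finrank_eq_finrank e.finrank_eq).mp (injective_ext H M) y

theorem isClopen_basicOpen {Z : Scheme.{u}} [IsArtinianRing Γ(Z, ⊤)] (b : Γ(Z, ⊤)) :
    IsClopen (Z.basicOpen b : Set Z) := by
  obtain ⟨n, c, hc⟩ := IsArtinian.exists_pow_succ_smul_dvd b (1 : Γ(Z, ⊤))
  simp only [Nat.succ_eq_add_one, smul_eq_mul, mul_one] at hc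
  have hu : IsCompl (Z.basicOpen b : Set Z) {x | x ∈ Z.basicOpen (1 - b * c)} := by
    constructor
    · rw [Set.disjoint_left]
      intro x hx hx'
      have h1 : b ^ n * (1 - b * c) = 0 := by rw [mul_sub, mul_one, ← mul_assoc, ← pow_succ, hc, sub_self]
      have h2 : x ∈ Z.basicOpen (b ^ n * (1 - b * c)) := by
        rw [Scheme.basicOpen_mul]
        exact ⟨(Z.mem_basicOpen_top _ x).mpr (by
          rw [map_pow]; exact ((Z.mem_basicOpen_top _ x).mp hx).pow n), hx'⟩
      rw [h1, Scheme.basicOpen_zero] at h2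
      exact h2
    · rw [codisjoint_iff, Set.top_eq_univ, Set.eq_univ_iff_forall]
      intro x
      rcases IsLocalRing.isUnit_or_isUnit_of_add_one
        (a := Z.presheaf.germ ⊤ x trivial (b * c)) (b := 1 - Z.presheaf.germ ⊤ x trivial (b * c)) (by ring) with h | h
      · refine Or.inl ((Z.mem_basicOpen_top b x).mpr ?_)
        rw [map_mul] at h
        exact isUnit_of_mul_isUnit_left h
      · refine Or.inr ((Z.mem_basicOpen_top (1 - b * c) x).mpr ?_)
        rw [map_sub, map_one]
        exact h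
  refine ⟨?_, (Z.basicOpen b).isOpen⟩
  rw [← compl_compl (Z.basicOpen b : Set Z), hu.compl_eq]
  exact (Z.basicOpen (1 - b * c)).isOpen.isClosed_compl

include H in
theorem nonempty_iso_of_pullback [CompactSpace X] [QuasiSeparatedSpace X]
    [Module.Finite k (Coh.HH X (Coh.structureModule X) 0)] {L : X.Modules} (hL : PicF.IsInvertible L)
    (i : pb g L ≅ Coh.structureModule X') : Nonempty (L ≅ Coh.structureModule X) := by
  haveI := TwistLib.isQCoh_of_isInvertible hL
  haveI : Coh.IsQCoh (Coh.structureModule X) := QCohLib.isQCoh_unit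
  haveI : Surjective g := MorphismProperty.of_isPullback (P := @Surjective) H.flip
    ⟨fun p => ⟨⟨⊥, Ideal.bot_prime⟩, (inferInstance : Subsingleton (PrimeSpectrum k)).elim _ _⟩⟩
  haveI : Flat g := MorphismProperty.of_isPullback (P := @Flat) H.flip
    (by rw [HasRingHomProperty.Spec_iff (P := @Flat)]; exact RingHom.flat_algebraMap_iff.mpr inferInstance)
  haveI : QuasiCompact g := MorphismProperty.of_isPullback (P := @QuasiCompact) H.flip inferInstance
  obtain ⟨e⟩ := RpushLib.nonempty_affBase_bc H (Coh.structureModule X) 0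
  haveI : Module.Finite k' (Coh.HH X' (pb g (Coh.structureModule X)) 0) := Module.Finite.equiv e
  haveI hfinO : Module.Finite k' (Coh.HH X' (Coh.structureModule X') 0) :=
    Module.Finite.equiv (CurvLib.hIso (k := k') (KFlatLib.pullUnitIso g) 0)
  -- sections of `L` are finite-dimensional
  haveI : Module.Finite k' (Coh.HH X' (pb g L) 0) := Module.Finite.equiv (CurvLib.hIso (k := k') i 0).symm
  haveI : Module.Finite k (Coh.HH X L 0) := by
    obtain ⟨eL⟩ := RpushLib.nonempty_affBase_bc H L 0
    haveI : Module.Finite k' (k' ⊗[k] Coh.HH X L 0) := Module.Finite.equiv eL.symm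
    exact Module.Finite.of_finite_tensorProduct_of_faithfullyFlat k'
  letI : Algebra k' Γ(X', ⊤) := (Coh.toGlobal (X' ↘ Spec (CommRingCat.of k'))).toAlgebra
  haveI : Module.Finite k' Γ(X', ⊤) := Module.Finite.equiv
    ({ DegPullLib.e0 (Coh.structureModule X') with
      map_smul' := fun r x => (DegPullLib.e0_smul (Coh.structureModule X') _ x).trans rfl } :
      Coh.HH X' (Coh.structureModule X') 0 ≃ₗ[k'] Γ(X', ⊤))
  haveI : IsArtinianRing Γ(X', ⊤) := IsArtinianRing.of_finite k' _
  have hL' := AmpleDevLib.isInvertible_pb g hL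
  -- every locus is clopen
  have hclopen : ∀ σ : Γ(L, ⊤), IsClopen (TwistLib.genSet hL σ : Set X) := by
    intro σ
    let τ : Γ(pb g L, ⊤) := puSec g σ
    have h1 : TwistLib.genSet hL' τ = X'.basicOpen (show Γ(X', ⊤) from i.hom.app ⊤ τ) := by
      rw [← AmpleThLib.genSet_iso hL' (fun x => ⟨⊤, trivial, ⟨Scheme.Modules.restrictUnitIso _⟩⟩) i τ]
      have h2 := AmpleThLib.mem_genSet_coeff (M := Coh.structureModule X')
        (fun x => ⟨⊤, trivial, ⟨Scheme.Modules.restrictUnitIso _⟩⟩) (i.hom.app ⊤ τ) (AmpleLib.one_genOn ⊤)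
        (r := (show Γ(X', ⊤) from i.hom.app ⊤ τ))
        ((mul_one (show Γ(X', ⊤) from i.hom.app ⊤ τ)).trans (AmpleLib.res_refl (Coh.structureModule X') (i.hom.app ⊤ τ)).symm)
      rwa [inf_top_eq] at h2
    rw [AmpleDevLib.genSet_puSec g hL σ] at h1
    have h3 : IsClopen (g.base ⁻¹' (TwistLib.genSet hL σ : Set X)) := by
      have h4 := isClopen_basicOpen (show Γ(X', ⊤) from i.hom.app ⊤ τ)
      rw [← h1] at h4
      exact h4
    exact ⟨(Flat.isQuotientMap_of_surjective g).isClosed_preimage.mp h3.1, (TwistLib.genSet hL σ).isOpen⟩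
  -- the loci cover
  have hgen : ∀ x : X, ∃ σ : Γ(L, ⊤), x ∈ TwistLib.genSet hL σ := by
    intro x
    obtain ⟨x', rfl⟩ := g.surjective x
    obtain ⟨z, hz⟩ := span_pullH0 H L ((DegPullLib.e0 (pb g L)).symm (i.inv.app ⊤ (1 : Γ(X', ⊤))))
    by_contra hn
    push Not at hn
    obtain ⟨O, e₁, hxO, he₁⟩ := TwistLib.exists_genOn hL' x'
    have hbad : ∀ w, ∀ r : Γ(X', O), r • e₁ = res (pb g L) le_top (DegPullLib.e0 (pb g L) (RpushLib.extSL (pullH0 H L) w)) →
        ¬ IsUnit (X'.presheaf.germ O x' hxO r) := by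
      intro w
      induction w using TensorProduct.induction_on with
      | zero =>
        intro r hr hu
        rw [map_zero, map_zero] at hr
        have hr0 : r = 0 := (he₁ O le_rfl).1 (by
          change r • res _ le_rfl e₁ = (0 : Γ(X', O)) • res _ le_rfl e₁
          rw [AmpleLib.res_refl, zero_smul, hr]
          exact map_zero ((pb g L).presheaf.map (homOfLE (le_top : O ≤ ⊤)).op).hom)
        rw [hr0, map_zero] at hu
        exact not_isUnit_zero hu
      | tmul c y =>
        intro r hr hu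
        obtain ⟨r', hr'⟩ := (he₁ O le_rfl).2 (res (pb g L) le_top (show Γ(pb g L, ⊤) from puSec g (DegPullLib.e0 L y)))
        dsimp only at hr'
        rw [AmpleLib.res_refl] at hr'
        have hsm : DegPullLib.e0 (pb g L) (RpushLib.extSL (pullH0 H L) (c ⊗ₜ y)) =
            (show Γ(X', ⊤) from Coh.toGlobal (X' ↘ Spec (CommRingCat.of k')) c) •
              (show Γ(pb g L, ⊤) from puSec g (DegPullLib.e0 L y)) := by
          rw [RpushLib.extSL_tmul]
          exact (DegPullLib.e0_smul (pb g L) _ _).trans (congrArg _ (e0_pullH0 H L y))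
        rw [hsm, AmpleLib.res_smul, ← hr', smul_smul] at hr
        have hrr := (he₁ O le_rfl).1 (show r • res (pb g L) le_rfl e₁ =
          (X'.presheaf.map (homOfLE (le_top : O ≤ ⊤)).op (Coh.toGlobal (X' ↘ Spec (CommRingCat.of k')) c) * r') • res (pb g L) le_rfl e₁ by
          simp only [AmpleLib.res_refl]; exact hr)
        rw [hrr, map_mul] at hu
        have hmem : x' ∈ TwistLib.genSet hL' (show Γ(pb g L, ⊤) from puSec g (DegPullLib.e0 L y)) :=
          ((AmpleThLib.mem_genSet_coeff hL' _ he₁ hr').ge ((X'.mem_basicOpen r' x' hxO).mpr (isUnit_of_mul_isUnit_right hu))).1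
        rw [AmpleDevLib.genSet_puSec g hL] at hmem
        exact hn _ hmem
      | add w w' hw hw' =>
        intro r hr hu
        obtain ⟨r₁, hr₁⟩ := (he₁ O le_rfl).2 (res (pb g L) le_top (DegPullLib.e0 (pb g L) (RpushLib.extSL (pullH0 H L) w)))
        obtain ⟨r₂, hr₂⟩ := (he₁ O le_rfl).2 (res (pb g L) le_top (DegPullLib.e0 (pb g L) (RpushLib.extSL (pullH0 H L) w')))
        dsimp only at hr₁ hr₂
        rw [AmpleLib.res_refl] at hr₁ hr₂
        have hrr := (he₁ O le_rfl).1 (show r • res (pb g L) le_rfl e₁ = (r₁ + r₂) • res (pb g L) le_rfl e₁ by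
          rw [AmpleLib.res_refl, add_smul, hr₁, hr₂, hr, map_add, map_add]
          exact map_add ((pb g L).presheaf.map (homOfLE (le_top : O ≤ ⊤)).op).hom _ _)
        rw [hrr, map_add] at hu
        rcases IsLocalRing.isUnit_or_isUnit_of_isUnit_add hu with h | h
        · exact hw r₁ hr₁ h
        · exact hw' r₂ hr₂ h
    obtain ⟨r, hr⟩ := (he₁ O le_rfl).2 (res (pb g L) le_top (i.inv.app ⊤ (1 : Γ(X', ⊤))))
    dsimp only at hr
    rw [AmpleLib.res_refl] at hr
    refine hbad z r (by rw [hz, AddEquiv.apply_symm_apply]; exact hr) ?_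
    have h1 : x' ∈ TwistLib.genSet hL' (i.inv.app ⊤ (1 : Γ(X', ⊤))) := by
      rw [show i.inv = i.symm.hom from rfl,
        AmpleThLib.genSet_iso (fun x => ⟨⊤, trivial, ⟨Scheme.Modules.restrictUnitIso _⟩⟩) hL' i.symm]
      exact (AmpleLib.one_genOn (X := X') ⊤).genAt trivial
    exact (X'.mem_basicOpen r x' hxO).mp ((AmpleThLib.mem_genSet_coeff hL' _ he₁ hr).le ⟨h1, hxO⟩)
  choose σ hσ using hgen
  obtain ⟨t, ht⟩ := isCompact_univ.elim_finite_subcover (fun x : X => (TwistLib.genSet hL (σ x) : Set X))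
    (fun x => (TwistLib.genSet hL (σ x)).isOpen) (fun x _ => Set.mem_iUnion.mpr ⟨x, hσ x⟩)
  obtain ⟨s, -, hs⟩ : ∃ s : Γ(L, ⊤), True ∧ ∀ x ∈ (⋃ a ∈ t, (TwistLib.genSet hL (σ a) : Set X)),
      x ∈ TwistLib.genSet hL s := by
    clear ht
    classical
    induction t using Finset.induction with
    | empty => exact ⟨0, trivial, by simp⟩
    | insert a t _ ih =>
      obtain ⟨s, -, hs⟩ := ih
      let P : X.Opens := TwistLib.genSet hL (σ a)
      let Q : X.Opens := ⟨(P : Set X)ᶜ, (hclopen (σ a)).1.isOpen_compl⟩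
      obtain ⟨s', hs', -⟩ := TopCat.Sheaf.existsUnique_gluing' (Coh.toAb L) (fun j : Bool => if j then P else Q) ⊤
        (fun j => homOfLE le_top) (fun z _ => by
          by_cases hz : z ∈ P
          · exact Opens.mem_iSup.mpr ⟨true, hz⟩
          · exact Opens.mem_iSup.mpr ⟨false, hz⟩)
        (fun j => res L le_top (if j then σ a else s))
        (fun j j' => by
          rcases j with _ | _ <;> rcases j' with _ | _
          · rfl
          · exact TwistLib.mod_ext L fun z hz => absurd hz.2 hz.1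
          · exact TwistLib.mod_ext L fun z hz => absurd hz.1 hz.2
          · rfl)
      refine ⟨s', trivial, fun x hx => ?_⟩
      have hloc : ∀ (j : Bool) (u : Γ(L, ⊤)), (if j then σ a else s) = u → ∀ z, z ∈ (if j then P else Q) →
          z ∈ TwistLib.genSet hL u → z ∈ TwistLib.genSet hL s' := by
        intro j u hu z hz hzu
        have h1 := congrArg (fun τ => L.presheaf.germ _ z hz τ) (hs' j)
        have e1 : L.presheaf.germ ⊤ z trivial s' = L.presheaf.germ ⊤ z trivial u := by
          rw [← hu]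
          exact (TopCat.Presheaf.germ_res_apply L.presheaf _ z hz s').symm.trans
            (h1.trans (TopCat.Presheaf.germ_res_apply L.presheaf _ z hz _))
        change AmpleLib.GenAt L s' _
        change AmpleLib.GenAt L u _ at hzu
        unfold AmpleLib.GenAt at hzu ⊢
        rwa [e1]
      by_cases hxP : x ∈ P
      · exact hloc true (σ a) rfl x hxP hxP
      · refine hloc false s rfl x hxP (hs x ?_)
        simp only [Finset.set_biUnion_insert, Set.mem_union] at hx
        exact hx.resolve_left hxP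
  obtain ⟨j⟩ := TwistLib.nonempty_iso_of_genOn (U := ⊤) s
    (TwistLib.genOn_of_genAt fun x _ => hs x (ht trivial))
  haveI := AmpleLib.isIso_unitHom s (TwistLib.genOn_of_genAt fun x _ => hs x (ht trivial))
  exact ⟨(asIso (QCohLib.unitHom L s)).symm⟩

end PicFieldLib
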